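import Cfsg.Agent.H869.EPO.Polar

/-!
# S5745, OWN characteristic, `T = Sp₆(2)`, the last node: the quadric on the 135 cosets (helper355)

* `RV` : the 15 vectors of the residue; `RV.mul_mem`, `RV.mul_mem'` : `{0, u} ∪ u^⊥` is a hyperplane;
* `SG` : `Y ⊇ P, Q` with four double cosets of `P`, the last one is `D`; the cosets of `P` are the points of a `Pol`.
-/

set_option autoImplicit false
set_option linter.unusedSectionVars false

namespace Cfsg.Agent.H355.EPO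

open Cfsg.Agent.H869.EPO

section RVs

variable {Q V : Type*} [Group Q] [CommGroup V]

/-- the vectors of the residue -/
structure RV (ρ : Q →* MulAut V) (u : V) (A B : Subgroup Q) (s m : Q) : Prop where
  sq : ∀ x : V, x * x = 1
  ne : u ≠ 1
  stab : ∀ k : Q, ρ k u = u ↔ k ∈ A
  surj : ∀ x : V, x ≠ 1 → ∃ k : Q, ρ k u = x
  dec : ∀ k : Q, k ∈ A ∨ (∃ a ∈ A, ∃ a' ∈ A, k = a * s * a') ∨ ∃ a ∈ A, ∃ a' ∈ A, k = a * m * a'
  BA : B ≤ A
  idx : B.relIndex A = 3
  card : Nat.card V = 16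
  hb : ∀ b ∈ B, ρ (b * s) u = ρ s u ∨ ρ (b * s) u = ρ s u * u
  us : ∃ a ∈ A, ρ (a * s) u = ρ s u * u
  hne : ∃ a ∈ A, ρ (a * s) u ≠ ρ s u ∧ ρ (a * s) u ≠ ρ s u * u

/-- the hyperplane `u^⊥` -/
def InE (ρ : Q →* MulAut V) (u : V) (A : Subgroup Q) (s : Q) (x : V) : Prop :=
  x = 1 ∨ x = u ∨ ∃ a ∈ A, x = ρ (a * s) u

namespace RV

variable {ρ : Q →* MulAut V} {u : V} {A B : Subgroup Q} {s m : Q} (r : RV ρ u A B s m)

include r

theorem eq_of (x y : V) (h : x * y = 1) : y = x := by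
  have h1 := r.sq x
  rw [← h] at h1
  exact (mul_left_cancel h1).symm

theorem rmul (k l : Q) (x : V) : ρ (k * l) x = ρ k (ρ l x) := by rw [map_mul]; rfl

theorem rA {a : Q} (ha : a ∈ A) : ρ a u = u := (r.stab a).2 ha

theorem mem_U {x : V} : x ∈ Subgroup.zpowers u ↔ x = 1 ∨ x = u := by
  constructor
  · rintro ⟨n, rfl⟩
    rcases Int.even_or_odd' n with ⟨k, rfl | rfl⟩
    · left
      show u ^ (2 * k) = 1
      rw [zpow_mul, zpow_two, r.sq, one_zpow]
    · right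
      show u ^ (2 * k + 1) = u
      rw [zpow_add, zpow_mul, zpow_two, r.sq, one_zpow, one_mul, zpow_one]
  · rintro (rfl | rfl)
    · exact one_mem _
    · exact Subgroup.mem_zpowers _

theorem pi_eq {x y : V} : (x : V ⧸ Subgroup.zpowers u) = y ↔ y = x ∨ y = x * u := by
  rw [QuotientGroup.eq, r.mem_U]
  constructor
  · rintro (h | h)
    · left
      have := mul_eq_of_eq_inv_mul (a := x) (b := 1) (c := x⁻¹ * y)
      have e : y = x * (x⁻¹ * y) := by group
      rw [e, h, mul_one]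
    · right
      have e : y = x * (x⁻¹ * y) := by group
      rw [e, h]
  · rintro (rfl | rfl)
    · left; group
    · right; group

theorem pi_act (a : Q) (ha : a ∈ A) {x y : V} (h : (x : V ⧸ Subgroup.zpowers u) = y) :
    (ρ a x : V ⧸ Subgroup.zpowers u) = ρ a y := by
  rw [r.pi_eq] at h ⊢
  rcases h with rfl | rfl
  · exact Or.inl rfl
  · right; rw [map_mul, r.rA ha]

theorem us' {a : Q} (ha : a ∈ A) : ∃ a' ∈ A, ρ (a * s) u * u = ρ (a' * s) u := by
  obtain ⟨a₀, ha₀, h⟩ := r.us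
  refine ⟨a * a₀, mul_mem ha ha₀, ?_⟩
  have e : ρ (a * a₀ * s) u = ρ a (ρ (a₀ * s) u) := by rw [← r.rmul, mul_assoc]
  rw [e, h, map_mul (ρ a), r.rA ha, r.rmul a s]

theorem sA : s ∉ A := by
  intro hs
  obtain ⟨a, ha, h, -⟩ := r.hne
  apply h
  rw [r.rmul, r.rA hs, r.rA ha]

/-- the sum over the three lines on `u` -/
theorem key [Finite V] [Finite Q] {a a' : Q} (ha : a ∈ A) (ha' : a' ∈ A) (haa : a⁻¹ * a' ∉ B) :
    ∃ a'' ∈ A, ((ρ (a * s) u * ρ (a' * s) u * ρ (a'' * s) u : V) : V ⧸ Subgroup.zpowers u) = 1 := by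
  classical
  let U := Subgroup.zpowers u
  let X := A ⧸ B.subgroupOf A
  have : Fintype X := Fintype.ofFinite X
  have hX : Fintype.card X = 3 := by
    rw [← Nat.card_eq_fintype_card]
    exact r.idx
  let F : X → V ⧸ U := fun c => ((ρ ((c.out : A) * s) u : V) : V ⧸ U)
  have hF : ∀ a : A, F (a : X) = ((ρ ((a : Q) * s) u : V) : V ⧸ U) := by
    intro a
    obtain ⟨b, hb⟩ := QuotientGroup.mk_out_eq_mul (B.subgroupOf A) a
    show ((ρ (((a : X).out : A) * s) u : V) : V ⧸ U) = _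
    rw [show (a : X).out = a * b from hb]
    have h1 := r.hb b.1 (Subgroup.mem_subgroupOf.1 b.2)
    have e : (((a * b : A) : Q) * s) = (a : Q) * ((b : Q) * s) := by push_cast; group
    rw [e, r.rmul, r.rmul a]
    apply r.pi_act a a.2
    rw [eq_comm, r.pi_eq]
    exact h1
  have hFs : ∀ (a : A) (c : X) (x : V), (x : V ⧸ U) = F c → ((ρ a x : V) : V ⧸ U) = F (a • c) := by
    intro a c x hx
    obtain ⟨a', rfl⟩ := QuotientGroup.mk_surjective c
    have h1 : a • ((a' : A) : X) = ((a * a' : A) : X) := rfl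
    rw [h1, hF]
    rw [hF] at hx
    have e : (((a * a' : A) : Q) * s) = (a : Q) * ((a' : Q) * s) := by push_cast; group
    rw [e, r.rmul]
    exact r.pi_act a a.2 hx
  obtain ⟨t, ht⟩ := QuotientGroup.mk_surjective (∏ c, F c)
  -- the action on the quotient
  have hfix : ∀ a : A, ((ρ a t : V) : V ⧸ U) = t := by
    intro a
    have hU : U ≤ U.comap ((ρ a : MulAut V) : V →* V) := by
      intro x hx
      rw [r.mem_U] at hx
      rcases hx with hx | hx
      · rw [hx]; exact one_mem _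
      · rw [hx]
        show ρ a u ∈ U
        rw [r.rA a.2]
        exact Subgroup.mem_zpowers _
    let φ : V ⧸ U →* V ⧸ U := QuotientGroup.map U U ((ρ a : MulAut V) : V →* V) hU
    have hφ : ∀ x : V, φ (x : V ⧸ U) = ((ρ a x : V) : V ⧸ U) := fun x => rfl
    rw [← hφ, show ((t : V) : V ⧸ U) = ∏ c, F c from ht, map_prod]
    have h1 : ∀ c, φ (F c) = F (a • c) := by
      intro c
      obtain ⟨x, hx⟩ := QuotientGroup.mk_surjective (F c)
      rw [← hx]
      exact hFs a c x hx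
    rw [Finset.prod_congr rfl fun c _ => h1 c]
    exact Equiv.prod_comp (MulAction.toPerm a) F
  have ht1 : ((t : V) : V ⧸ U) = 1 := by
    by_contra hne
    have htU : t ∉ U := fun h => hne ((QuotientGroup.eq_one_iff t).2 h)
    have ht0 : t ≠ 1 := fun h => htU (h ▸ one_mem _)
    obtain ⟨k, hk⟩ := r.surj t ht0
    rcases r.dec k with h1 | ⟨a, ha, a', ha', rfl⟩ | ⟨a, ha, a', ha', rfl⟩
    · apply htU
      rw [← hk, r.rA h1]
      exact Subgroup.mem_zpowers _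
    · rw [r.rmul, r.rA ha'] at hk
      have h2 : ∀ b ∈ A, ((ρ (b * s) u : V) : V ⧸ U) = t := by
        intro b hb
        have h3 := hfix ⟨b * a⁻¹, mul_mem hb (inv_mem ha)⟩
        rw [← hk] at h3 ⊢
        rw [← h3]
        show ((ρ (b * s) u : V) : V ⧸ U) = ((ρ (b * a⁻¹) (ρ (a * s) u) : V) : V ⧸ U)
        rw [← r.rmul]
        congr 3
        group
      obtain ⟨b, hb, h3, h4⟩ := r.hne
      have h5 := (h2 1 (one_mem _)).trans (h2 b hb).symm
      rw [one_mul, r.pi_eq] at h5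
      exact h5.elim h3 h4
    · rw [r.rmul, r.rA ha'] at hk
      have hU2 : Nat.card U = 2 := by
        rw [Nat.card_zpowers]
        exact orderOf_eq_prime (by rw [pow_two]; exact r.sq u) r.ne
      have hVU : Nat.card (V ⧸ U) = 8 := by
        have h1 := Subgroup.card_eq_card_quotient_mul_card_subgroup U
        rw [r.card, hU2] at h1
        omega
      let g : Option (Option X) → V ⧸ U := fun o => o.elim 1 fun o' => o'.elim (t : V ⧸ U) F
      have hg : Function.Surjective g := by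
        intro x
        obtain ⟨x, rfl⟩ := QuotientGroup.mk_surjective x
        by_cases hx : x = 1
        · exact ⟨none, by rw [hx]; rfl⟩
        obtain ⟨l, hl⟩ := r.surj x hx
        rcases r.dec l with h1 | ⟨b, hb, b', hb', rfl⟩ | ⟨b, hb, b', hb', rfl⟩
        · refine ⟨none, ?_⟩
          rw [← hl, r.rA h1]
          exact ((QuotientGroup.eq_one_iff u).2 (Subgroup.mem_zpowers u)).symm
        · rw [r.rmul, r.rA hb'] at hl
          refine ⟨some (some ((⟨b, hb⟩ : A) : X)), ?_⟩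
          show F _ = _
          rw [hF, ← hl]
        · rw [r.rmul, r.rA hb'] at hl
          refine ⟨some none, ?_⟩
          show ((t : V) : V ⧸ U) = _
          have h3 := hfix ⟨b * a⁻¹, mul_mem hb (inv_mem ha)⟩
          rw [← h3, ← hk, ← hl]
          show ((ρ (b * a⁻¹) (ρ (a * m) u) : V) : V ⧸ U) = ((ρ (b * m) u : V) : V ⧸ U)
          rw [← r.rmul]
          congr 3
          group
      have h2 := Nat.card_le_card_of_surjective g hg
      rw [hVU, Finite.card_option, Finite.card_option, Nat.card_eq_fintype_card, hX] at h2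
      omega
  -- the third coset
  have hcc : ((⟨a, ha⟩ : A) : X) ≠ ((⟨a', ha'⟩ : A) : X) := by
    intro h
    apply haa
    exact Subgroup.mem_subgroupOf.1 (QuotientGroup.eq.1 h)
  have h1 : ((Finset.univ.erase ((⟨a, ha⟩ : A) : X)).erase ((⟨a', ha'⟩ : A) : X)).card = 1 := by
    rw [Finset.card_erase_of_mem (Finset.mem_erase.2 ⟨hcc.symm, Finset.mem_univ _⟩),
      Finset.card_erase_of_mem (Finset.mem_univ _), Finset.card_univ, hX]
  obtain ⟨c, hc⟩ := Finset.card_eq_one.1 h1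
  obtain ⟨a'', rfl⟩ := QuotientGroup.mk_surjective c
  refine ⟨a'', a''.2, ?_⟩
  have h2 : (∏ c, F c) = 1 := by rw [← ht1]; exact ht.symm
  rw [← Finset.mul_prod_erase _ F (Finset.mem_univ ((⟨a, ha⟩ : A) : X)),
    ← Finset.mul_prod_erase _ F (Finset.mem_erase.2 ⟨hcc.symm, Finset.mem_univ ((⟨a', ha'⟩ : A) : X)⟩),
    hc, Finset.prod_singleton, ← mul_assoc, hF, hF, hF] at h2
  exact h2

theorem mul_mem [Finite V] [Finite Q] {x y : V} (hx : InE ρ u A s x) (hy : InE ρ u A s y) :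
    InE ρ u A s (x * y) := by
  rcases hx with rfl | rfl | ⟨a, ha, rfl⟩
  · rw [one_mul]; exact hy
  · rcases hy with rfl | rfl | ⟨a', ha', rfl⟩
    · rw [mul_one]; exact Or.inr (Or.inl rfl)
    · left; exact r.sq _
    · right; right
      rw [mul_comm]
      exact r.us' ha'
  · rcases hy with rfl | rfl | ⟨a', ha', rfl⟩
    · rw [mul_one]; exact Or.inr (Or.inr ⟨a, ha, rfl⟩)
    · right; right
      exact r.us' ha
    · by_cases hB : a⁻¹ * a' ∈ B
      · have h1 := r.hb _ hB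
        have e : ρ (a' * s) u = ρ a (ρ (a⁻¹ * a' * s) u) := by
          rw [← r.rmul]
          congr 2
          group
        rcases h1 with h1 | h1
        · left
          rw [e, h1, ← r.rmul]
          exact r.sq _
        · right; left
          rw [e, h1, map_mul (ρ a), r.rA ha, r.rmul a s, ← mul_assoc, r.sq, one_mul]
      · obtain ⟨a'', ha'', h1⟩ := r.key ha ha' hB
        rw [QuotientGroup.eq_one_iff, r.mem_U] at h1
        right; right
        rcases h1 with h1 | h1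
        · refine ⟨a'', ha'', ?_⟩
          exact (r.eq_of _ _ h1).symm
        · obtain ⟨b, hb, h2⟩ := r.us' ha''
          refine ⟨b, hb, ?_⟩
          rw [← h2]
          calc ρ (a * s) u * ρ (a' * s) u
              = ρ (a * s) u * ρ (a' * s) u * (ρ (a'' * s) u * ρ (a'' * s) u) := by rw [r.sq, mul_one]
            _ = ρ (a * s) u * ρ (a' * s) u * ρ (a'' * s) u * ρ (a'' * s) u := by
              rw [← mul_assoc (ρ (a * s) u * ρ (a' * s) u)]
            _ = ρ (a'' * s) u * u := by rw [h1, mul_comm]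

theorem mul_mem' [Finite V] [Finite Q] {x y : V} (hx : ¬ InE ρ u A s x) (hy : ¬ InE ρ u A s y) :
    InE ρ u A s (x * y) := by
  let E : Subgroup V :=
    { carrier := {x | InE ρ u A s x}
      one_mem' := Or.inl rfl
      mul_mem' := fun h1 h2 => r.mul_mem h1 h2
      inv_mem' := by
        intro x hx
        rw [show x⁻¹ = x from inv_eq_of_mul_eq_one_left (r.sq x)]
        exact hx }
  have hE : ∀ x, x ∈ E ↔ InE ρ u A s x := fun x => Iff.rfl
  obtain ⟨a, ha, hy1, hy2⟩ := r.hne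
  have hcard : 5 ≤ Nat.card E := by
    have m0 : InE ρ u A s 1 := Or.inl rfl
    have m1 : InE ρ u A s u := Or.inr (Or.inl rfl)
    have m2 : InE ρ u A s (ρ s u) := Or.inr (Or.inr ⟨1, one_mem _, by rw [one_mul]⟩)
    have m3 : InE ρ u A s (ρ s u * u) := r.mul_mem m2 m1
    have m4 : InE ρ u A s (ρ (a * s) u) := Or.inr (Or.inr ⟨a, ha, rfl⟩)
    let f : Fin 5 → E := ![⟨1, m0⟩, ⟨u, m1⟩, ⟨ρ s u, m2⟩, ⟨ρ s u * u, m3⟩, ⟨ρ (a * s) u, m4⟩]
    have hk1 : ∀ k : Q, ρ k u ≠ 1 := by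
      intro k h
      rw [map_eq_one_iff _ (MulEquiv.injective _)] at h
      exact r.ne h
    have d01 : (1 : V) ≠ u := fun h => r.ne h.symm
    have d02 : (1 : V) ≠ ρ s u := fun h => hk1 s h.symm
    have d12 : u ≠ ρ s u := fun h => r.sA ((r.stab s).1 h.symm)
    have d03 : (1 : V) ≠ ρ s u * u := fun h => d12 (r.eq_of _ _ h.symm)
    have d13 : u ≠ ρ s u * u := fun h => hk1 s (by
      have := mul_right_cancel (h.symm.trans (one_mul u).symm)
      exact this)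
    have d23 : ρ s u ≠ ρ s u * u := fun h => r.ne (by
      have := mul_left_cancel ((mul_one _).trans h)
      exact this.symm)
    have d04 : (1 : V) ≠ ρ (a * s) u := fun h => hk1 _ h.symm
    have d14 : u ≠ ρ (a * s) u := fun h => r.sA (by
      have h1 := (r.stab _).1 h.symm
      rwa [A.mul_mem_cancel_left ha] at h1)
    have hf : Function.Injective f := by
      intro i j hij
      have h1 : (f i : V) = f j := congrArg Subtype.val hij
      fin_cases i <;> fin_cases j <;> first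
        | rfl
        | exact absurd h1 d01
        | exact absurd h1 d02
        | exact absurd h1 d03
        | exact absurd h1 d04
        | exact absurd h1 d12
        | exact absurd h1 d13
        | exact absurd h1 d14
        | exact absurd h1 d23
        | exact absurd h1 hy1.symm
        | exact absurd h1 hy2.symm
        | exact absurd h1 d01.symm
        | exact absurd h1 d02.symm
        | exact absurd h1 d03.symm
        | exact absurd h1 d04.symm
        | exact absurd h1 d12.symm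
        | exact absurd h1 d13.symm
        | exact absurd h1 d14.symm
        | exact absurd h1 d23.symm
        | exact absurd h1 hy1
        | exact absurd h1 hy2
    have h2 := Nat.card_le_card_of_injective f hf
    rwa [Nat.card_fin] at h2
  have h1 := E.index_mul_card
  rw [r.card] at h1
  have h2 : E.index = 1 ∨ E.index = 2 := by
    have h3 : E.index ≤ 3 := by
      by_contra h4
      push Not at h4
      nlinarith
    have h5 : 0 < E.index := by
      rcases Nat.eq_zero_or_pos E.index with h | h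
      · rw [h, zero_mul] at h1
        omega
      · exact h
    have h6 : E.index ≠ 3 := by
      intro h7
      rw [h7] at h1
      omega
    omega
  rcases h2 with h2 | h2
  · rw [Subgroup.index_eq_one] at h2
    exact absurd ((hE x).1 (h2 ▸ Subgroup.mem_top x)) hx
  · rw [← hE, Subgroup.mul_mem_iff_of_index_two h2, hE, hE]
    exact ⟨fun h => absurd h hx, fun h => absurd h hy⟩

end RV

end RVs

/-! ### The coset geometry -/

section SGs

variable {Y : Type*} [Group Y]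

/-- `P` is a maximal parabolic subgroup with four double cosets, `D` is the last one, `Q` the residue -/
structure SG (P Q : Subgroup Y) (D : Set Y) (s m : Q) (z : Y) : Prop where
  D_mul : ∀ p ∈ P, ∀ p' ∈ P, ∀ g ∈ D, p * g * p' ∈ D
  D_inv : ∀ g ∈ D, g⁻¹ ∈ D
  D_tr : ∀ g ∈ D, ∀ g' ∈ D, ∃ p ∈ P, ∃ p' ∈ P, g' = p * g * p'
  near : ∀ g, g ∉ D → ∃ p ∈ P, ∃ k ∈ Q, ∃ p' ∈ P, g = p * k * p'
  QD : ∀ k ∈ Q, k ∉ D
  proj : ∀ g : Y, (∃ k ∈ Q, ∃ p ∈ P, g = k * p) ∨ ∃ k ∈ Q, ∃ p ∈ P, g = k * z * p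
  nc : ∃ g g' : Y, g ∉ D ∧ g' ∉ D ∧ g⁻¹ * g' ∈ D
  dec : ∀ k : Q, k ∈ P.subgroupOf Q ∨ (∃ a ∈ P.subgroupOf Q, ∃ a' ∈ P.subgroupOf Q, k = a * s * a') ∨
    ∃ a ∈ P.subgroupOf Q, ∃ a' ∈ P.subgroupOf Q, k = a * m * a'
  z1 : ∀ a ∈ P.subgroupOf Q, z⁻¹ * (a : Y) ∉ D
  zs : ∀ a ∈ P.subgroupOf Q, z⁻¹ * ((a * s : Q) : Y) ∉ D
  zm : ∀ a ∈ P.subgroupOf Q, z⁻¹ * ((a * m : Q) : Y) ∈ D

/-- collinearity -/
def sperp (P : Subgroup Y) (D : Set Y) (x y : Y ⧸ P) : Prop := ∃ g k : Y, x = g ∧ y = k ∧ g⁻¹ * k ∉ D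

/-- lines -/
def SLn (P Q : Subgroup Y) {V : Type*} [CommGroup V] (ρ : Q →* MulAut V) (u : V) (x y z : Y ⧸ P) : Prop :=
  ∃ (g : Y) (k₁ k₂ k₃ : Q), x = ((g * k₁ : Y) : Y ⧸ P) ∧ y = ((g * k₂ : Y) : Y ⧸ P) ∧ z = ((g * k₃ : Y) : Y ⧸ P) ∧
    ρ k₁ u * ρ k₂ u * ρ k₃ u = 1

namespace SG

variable {P Q : Subgroup Y} {D : Set Y} {s m : Q} {z : Y} (g : SG P Q D s m z)

include g

theorem D_iff {p k p' : Y} (hp : p ∈ P) (hp' : p' ∈ P) : p * k * p' ∈ D ↔ k ∈ D := by
  refine ⟨fun h => ?_, fun h => g.D_mul _ hp _ hp' _ h⟩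
  have := g.D_mul _ (inv_mem hp) _ (inv_mem hp') _ h
  have e : p⁻¹ * (p * k * p') * p'⁻¹ = k := by group
  rwa [e] at this

theorem D_right {k p' : Y} (hp' : p' ∈ P) : k * p' ∈ D ↔ k ∈ D := by
  have := g.D_iff (k := k) (one_mem P) hp'
  rwa [one_mul] at this

theorem D_left {k p : Y} (hp : p ∈ P) : p * k ∈ D ↔ k ∈ D := by
  have := g.D_iff (k := k) hp (one_mem P)
  rwa [mul_one] at this

theorem perp_mk {x y : Y} : sperp P D (x : Y ⧸ P) (y : Y ⧸ P) ↔ x⁻¹ * y ∉ D := by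
  constructor
  · rintro ⟨x', y', h1, h2, h3⟩ h4
    apply h3
    rw [QuotientGroup.eq] at h1 h2
    have := g.D_mul _ (inv_mem h1) _ h2 _ h4
    have e : (x⁻¹ * x')⁻¹ * (x⁻¹ * y) * (y⁻¹ * y') = x'⁻¹ * y' := by group
    rwa [e] at this
  · exact fun h => ⟨x, y, rfl, rfl, h⟩

theorem refl' (x : Y ⧸ P) : sperp P D x x := by
  obtain ⟨x, rfl⟩ := QuotientGroup.mk_surjective x
  exact g.perp_mk.2 (by rw [inv_mul_cancel]; exact g.QD 1 (one_mem _))

theorem symm' (x y : Y ⧸ P) (h : sperp P D x y) : sperp P D y x := by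
  obtain ⟨x, rfl⟩ := QuotientGroup.mk_surjective x
  obtain ⟨y, rfl⟩ := QuotientGroup.mk_surjective y
  refine g.perp_mk.2 fun h1 => g.perp_mk.1 h ?_
  have := g.D_inv _ h1
  rwa [mul_inv_rev, inv_inv] at this

theorem inv' (k : Y) {x y : Y} (h : sperp P D (x : Y ⧸ P) (y : Y ⧸ P)) :
    sperp P D ((k * x : Y) : Y ⧸ P) ((k * y : Y) : Y ⧸ P) := by
  rw [g.perp_mk] at h ⊢
  have e : (k * x)⁻¹ * (k * y) = x⁻¹ * y := by group
  rwa [e]

theorem opp' {x y : Y} (hx : ¬ sperp P D ((1 : Y) : Y ⧸ P) (x : Y ⧸ P))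
    (hy : ¬ sperp P D ((1 : Y) : Y ⧸ P) (y : Y ⧸ P)) : ∃ p ∈ P, ((p * x : Y) : Y ⧸ P) = y := by
  rw [g.perp_mk, not_not, inv_one, one_mul] at hx hy
  obtain ⟨p, hp, p', hp', h⟩ := g.D_tr _ hx _ hy
  refine ⟨p, hp, ?_⟩
  rw [QuotientGroup.eq, h]
  have e : (p * x)⁻¹ * (p * x * p') = p' := by group
  rwa [e]

variable {V : Type*} [CommGroup V] {ρ : Q →* MulAut V} {u : V} {B : Subgroup Q} (r : RV ρ u (P.subgroupOf Q) B s m)

include r

theorem inE_iff (k : Q) : InE ρ u (P.subgroupOf Q) s (ρ k u) ↔ z⁻¹ * (k : Y) ∉ D := by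
  constructor
  · rintro (h | h | ⟨a, ha, h⟩)
    · rw [map_eq_one_iff _ (MulEquiv.injective _)] at h
      exact absurd h r.ne
    · exact g.z1 k ((r.stab k).1 h)
    · have h1 : (a * s)⁻¹ * k ∈ P.subgroupOf Q := by
        rw [← r.stab, r.rmul, h, ← r.rmul, inv_mul_cancel, map_one]
        rfl
      have e : z⁻¹ * (k : Y) = z⁻¹ * ((a * s : Q) : Y) * (((a * s)⁻¹ * k : Q) : Y) := by
        push_cast
        group
      rw [e, g.D_right (Subgroup.mem_subgroupOf.1 h1)]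
      exact g.zs a ha
  · intro h
    rcases g.dec k with h1 | ⟨a, ha, a', ha', rfl⟩ | ⟨a, ha, a', ha', rfl⟩
    · exact Or.inr (Or.inl ((r.stab k).2 h1))
    · exact Or.inr (Or.inr ⟨a, ha, by rw [r.rmul, r.rA ha']⟩)
    · exfalso
      apply h
      have e : z⁻¹ * ((a * m * a' : Q) : Y) = z⁻¹ * ((a * m : Q) : Y) * (a' : Y) := by
        push_cast
        group
      rw [e, g.D_right (Subgroup.mem_subgroupOf.1 ha')]
      exact g.zm a ha

theorem line' (x y : Y ⧸ P) (hne : x ≠ y) (h : sperp P D x y) : ∃ w, SLn P Q ρ u x y w := by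
  obtain ⟨x, rfl⟩ := QuotientGroup.mk_surjective x
  obtain ⟨y, rfl⟩ := QuotientGroup.mk_surjective y
  obtain ⟨p, hp, k, hk, p', hp', h1⟩ := g.near _ (g.perp_mk.1 h)
  have hkP : k ∉ P := by
    intro h2
    apply hne
    apply QuotientGroup.eq.2
    rw [h1]
    exact P.mul_mem (P.mul_mem hp h2) hp'
  have h2 : u * ρ ⟨k, hk⟩ u ≠ 1 := by
    intro h3
    exact hkP (Subgroup.mem_subgroupOf.1 ((r.stab ⟨k, hk⟩).1 (r.eq_of _ _ h3)))
  obtain ⟨l, hl⟩ := r.surj _ h2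
  refine ⟨((x * p * l : Y) : Y ⧸ P), x * p, 1, ⟨k, hk⟩, l, ?_, ?_, rfl, ?_⟩
  · apply QuotientGroup.eq.2
    have e : x⁻¹ * (x * p * ((1 : Q) : Y)) = p := by push_cast; group
    rwa [e]
  · apply QuotientGroup.eq.2
    have e : y⁻¹ * (x * p * k) = p'⁻¹ := by
      have e1 : y = x * (x⁻¹ * y) := by group
      rw [e1, h1]
      group
    show y⁻¹ * (x * p * k) ∈ P
    rw [e]
    exact inv_mem hp'
  · rw [map_one, MulAut.one_apply, hl]
    exact r.sq _

theorem lp' (x y w : Y ⧸ P) (h : SLn P Q ρ u x y w) : sperp P D x y ∧ sperp P D x w := by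
  obtain ⟨k, k₁, k₂, k₃, rfl, rfl, rfl, -⟩ := h
  constructor
  · rw [g.perp_mk]
    have e : (k * (k₁ : Y))⁻¹ * (k * (k₂ : Y)) = ((k₁⁻¹ * k₂ : Q) : Y) := by push_cast; group
    rw [e]
    exact g.QD _ (k₁⁻¹ * k₂).2
  · rw [g.perp_mk]
    have e : (k * (k₁ : Y))⁻¹ * (k * (k₃ : Y)) = ((k₁⁻¹ * k₃ : Q) : Y) := by push_cast; group
    rw [e]
    exact g.QD _ (k₁⁻¹ * k₃).2

theorem rot' (x y w : Y ⧸ P) (h : SLn P Q ρ u x y w) : SLn P Q ρ u y x w ∧ SLn P Q ρ u x w y := by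
  obtain ⟨k, k₁, k₂, k₃, h1, h2, h3, h4⟩ := h
  refine ⟨⟨k, k₂, k₁, k₃, h2, h1, h3, ?_⟩, ⟨k, k₁, k₃, k₂, h1, h3, h2, ?_⟩⟩
  · rw [mul_comm (ρ k₂ u)]; exact h4
  · rw [mul_right_comm]; exact h4

theorem oa' [Finite V] [Finite Y] (x y w v : Y ⧸ P) (h : SLn P Q ρ u x y w) (hv : ¬ sperp P D v x) :
    (sperp P D v y ∧ ¬ sperp P D v w) ∨ (¬ sperp P D v y ∧ sperp P D v w) := by
  obtain ⟨k, k₁, k₂, k₃, rfl, rfl, rfl, h4⟩ := h
  obtain ⟨v, rfl⟩ := QuotientGroup.mk_surjective v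
  rw [show (QuotientGroup.mk v : Y ⧸ P) = ((v : Y) : Y ⧸ P) from rfl, g.perp_mk] at hv
  rw [show (QuotientGroup.mk v : Y ⧸ P) = ((v : Y) : Y ⧸ P) from rfl, g.perp_mk, g.perp_mk]
  push Not at hv
  rcases g.proj (k⁻¹ * v) with ⟨l, hl, p, hp, h1⟩ | ⟨l, hl, p, hp, h1⟩
  · exfalso
    have e : v⁻¹ * (k * (k₁ : Y)) = p⁻¹ * (l⁻¹ * (k₁ : Y)) := by
      have e1 : v = k * (k⁻¹ * v) := by group
      rw [e1, h1]
      group
    rw [e, g.D_left (inv_mem hp)] at hv
    exact g.QD _ (mul_mem (inv_mem hl) k₁.2) hv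
  · have e : ∀ j : Q, (v⁻¹ * (k * (j : Y)) ∉ D ↔ InE ρ u (P.subgroupOf Q) s (ρ (⟨l, hl⟩⁻¹ * j) u)) := by
      intro j
      rw [g.inE_iff r]
      have e : v⁻¹ * (k * (j : Y)) = p⁻¹ * (z⁻¹ * ((⟨l, hl⟩⁻¹ * j : Q) : Y)) := by
        have e1 : v = k * (k⁻¹ * v) := by group
        rw [e1, h1]
        push_cast
        group
      rw [e, g.D_left (inv_mem hp)]
    have h5 : ρ (⟨l, hl⟩⁻¹ * k₁) u * ρ (⟨l, hl⟩⁻¹ * k₂) u * ρ (⟨l, hl⟩⁻¹ * k₃) u = 1 := by
      rw [r.rmul, r.rmul _ k₂, r.rmul _ k₃, ← map_mul, ← map_mul, h4, map_one]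
    have hv' : ¬ InE ρ u (P.subgroupOf Q) s (ρ (⟨l, hl⟩⁻¹ * k₁) u) := fun h => (e k₁).2 h hv
    have hx3 : ρ (⟨l, hl⟩⁻¹ * k₃) u = ρ (⟨l, hl⟩⁻¹ * k₁) u * ρ (⟨l, hl⟩⁻¹ * k₂) u := r.eq_of _ _ h5
    by_cases h6 : InE ρ u (P.subgroupOf Q) s (ρ (⟨l, hl⟩⁻¹ * k₂) u)
    · left
      refine ⟨(e k₂).2 h6, fun h7 => ?_⟩
      apply hv'
      have h8 := r.mul_mem ((e k₃).1 h7) h6
      rw [hx3, mul_assoc, r.sq, mul_one] at h8
      exact h8
    · right
      refine ⟨fun h7 => h6 ((e k₂).1 h7), (e k₃).2 ?_⟩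
      rw [hx3]
      exact r.mul_mem' hv' h6

theorem pol [Finite V] [Finite Y] : Pol (sperp P D) (SLn P Q ρ u) where
  refl := g.refl'
  symm := g.symm'
  line := g.line' r
  lp := g.lp' r
  rot := g.rot' r
  oa := g.oa' r
  nc := by
    intro x
    obtain ⟨x, rfl⟩ := QuotientGroup.mk_surjective x
    obtain ⟨k, k', h1, h2, h3⟩ := g.nc
    refine ⟨((x * k : Y) : Y ⧸ P), ((x * k' : Y) : Y ⧸ P), ?_, ?_, ?_⟩
    · refine g.perp_mk.2 ?_
      rwa [inv_mul_cancel_left]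
    · refine g.perp_mk.2 ?_
      rwa [inv_mul_cancel_left]
    · rw [g.perp_mk, not_not]
      have e : (x * k)⁻¹ * (x * k') = k⁻¹ * k' := by group
      rwa [e]
  no := by
    intro x
    obtain ⟨x, rfl⟩ := QuotientGroup.mk_surjective x
    obtain ⟨k, k', h1, h2, h3⟩ := g.nc
    refine ⟨((x * (k⁻¹ * k')⁻¹ : Y) : Y ⧸ P), ?_⟩
    rw [show (QuotientGroup.mk x : Y ⧸ P) = ((x : Y) : Y ⧸ P) from rfl, g.perp_mk, not_not]
    have e : (x * (k⁻¹ * k')⁻¹)⁻¹ * x = k⁻¹ * k' := by group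
    rwa [e]

end SG

end SGs

end Cfsg.Agent.H355.EPO
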