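import Cfsg.Agent.Tits.OppRes

/-!
# S5745, OWN characteristic, `T = Sp₆(2)`, the last node: the Weyl group (helper355)

`W` of type `B₃`, `J = {0, 1}`, `K = {1, 2}` : the four double cosets `W_J \ W / W_J`, represented by `1`, `s₂`,
`s₂ s₁ s₂`, `s₂ s₁ s₀ s₂ s₁ s₂`; the last one is `Opp`.
-/

set_option autoImplicit false
set_option linter.unusedSectionVars false

namespace Cfsg.Agent.H355.EPO

open Cfsg.Agent.Tits.Core

/-- signed permutations: `0, 1, 2` are positive, `3, 4, 5` negative -/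
def fv : Fin 3 → Equiv.Perm (Fin 6)
  | 0 => Equiv.swap 0 1 * Equiv.swap 3 4
  | 1 => Equiv.swap 1 2 * Equiv.swap 4 5
  | 2 => Equiv.swap 2 5

theorem fv_liftable : (CoxeterMatrix.B 3).IsLiftable fv := by
  have h : ∀ i j : Fin 3, (fv i * fv j) ^ (CoxeterMatrix.B 3) i j = 1 := by decide
  exact h

section

variable {W : Type*} [Group W] (cs : CoxeterSystem (CoxeterMatrix.B 3) W)

/-- the signed permutation of an element of the Weyl group -/
noncomputable def phi : W →* Equiv.Perm (Fin 6) := cs.lift ⟨fv, fv_liftable⟩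

theorem phi_simple (i : Fin 3) : phi cs (cs.simple i) = fv i := cs.lift_apply_simple fv_liftable i

/-- the permutations which map positive to negative -/
def OppP (σ : Equiv.Perm (Fin 6)) : Prop := ∀ x : Fin 6, (x : ℕ) < 3 → ¬ ((σ x : Fin 6) : ℕ) < 3

instance (σ : Equiv.Perm (Fin 6)) : Decidable (OppP σ) := inferInstanceAs (Decidable (∀ x : Fin 6, (x : ℕ) < 3 → ¬ ((σ x : Fin 6) : ℕ) < 3))

/-- opposite -/
def Opp (v : W) : Prop := OppP (phi cs v)

theorem phi_J {u : W} (hu : u ∈ WJ cs ({2}ᶜ : Set (Fin 3))) :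
    ∀ x : Fin 6, ((phi cs u x : Fin 6) : ℕ) < 3 ↔ (x : ℕ) < 3 := by
  unfold WJ at hu
  induction hu using Subgroup.closure_induction with
  | mem g hg =>
    obtain ⟨j, hj, rfl⟩ := hg
    rw [phi_simple]
    have h1 : ∀ j : Fin 3, j ≠ 2 → ∀ x : Fin 6, ((fv j x : Fin 6) : ℕ) < 3 ↔ (x : ℕ) < 3 := by decide
    exact h1 j hj
  | one => intro x; rw [map_one]; rfl
  | mul a b _ _ ha hb =>
    intro x
    rw [map_mul, Equiv.Perm.mul_apply, ha, hb]
  | inv a _ ha =>
    intro x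
    rw [map_inv, ← ha, ← Equiv.Perm.mul_apply, mul_inv_cancel, Equiv.Perm.one_apply]

theorem opp_mul {u v u' : W} (hu : u ∈ WJ cs ({2}ᶜ : Set (Fin 3))) (hu' : u' ∈ WJ cs ({2}ᶜ : Set (Fin 3))) :
    Opp cs (u * v * u') ↔ Opp cs v := by
  unfold Opp OppP
  constructor
  · intro h x hx h1
    apply h ((phi cs u')⁻¹ x)
    · rw [← map_inv, phi_J cs (inv_mem hu')]
      exact hx
    · rw [map_mul, map_mul, Equiv.Perm.mul_apply, Equiv.Perm.mul_apply, phi_J cs hu, ← Equiv.Perm.mul_apply _ _ x,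
        mul_inv_cancel, Equiv.Perm.one_apply]
      exact h1
  · intro h x hx h1
    rw [map_mul, map_mul, Equiv.Perm.mul_apply, Equiv.Perm.mul_apply, phi_J cs hu] at h1
    exact h _ ((phi_J cs hu' x).2 hx) h1

theorem opp_inv {v : W} (h : Opp cs v) : Opp cs v⁻¹ := by
  intro x hx h1
  apply h _ h1
  rw [map_inv, ← Equiv.Perm.mul_apply, mul_inv_cancel, Equiv.Perm.one_apply]
  exact hx

/-! ### Words -/

local notation "a" => cs.simple 0
local notation "b" => cs.simple 1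
local notation "c" => cs.simple 2

theorem r0 (z : W) : a * (a * z) = z := by rw [← mul_assoc, cs.simple_mul_simple_self, one_mul]
theorem r1 (z : W) : b * (b * z) = z := by rw [← mul_assoc, cs.simple_mul_simple_self, one_mul]
theorem r2 (z : W) : c * (c * z) = z := by rw [← mul_assoc, cs.simple_mul_simple_self, one_mul]

theorem c02 (z : W) : a * (c * z) = c * (a * z) := by
  have h : (a * c) ^ 2 = 1 := cs.simple_mul_simple_pow 0 2
  have h1 : a * c = c * a := by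
    rw [pow_two] at h
    have := mul_eq_one_iff_eq_inv.1 h
    rwa [mul_inv_rev, cs.inv_simple, cs.inv_simple] at this
  rw [← mul_assoc, h1, mul_assoc]

theorem b01 (z : W) : a * (b * (a * z)) = b * (a * (b * z)) := by
  have h : (a * b) ^ 3 = 1 := cs.simple_mul_simple_pow 0 1
  have h1 : a * b * a = b * a * b := by
    have e : (a * b) ^ 3 = (a * b * a) * (b * a * b) := by rw [pow_succ, pow_two]; simp only [mul_assoc]
    rw [e] at h
    have := mul_eq_one_iff_eq_inv.1 h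
    simpa [mul_inv_rev, cs.inv_simple, mul_assoc] using this
  have h2 := congrArg (· * z) h1
  simpa [mul_assoc] using h2

theorem b12 (z : W) : b * (c * (b * (c * z))) = c * (b * (c * (b * z))) := by
  have h : (b * c) ^ 4 = 1 := cs.simple_mul_simple_pow 1 2
  have h1 : b * c * b * c = c * b * c * b := by
    have e : (b * c) ^ 4 = (b * c * b * c) * (b * c * b * c) := by
      rw [pow_succ, pow_succ, pow_two]; simp only [mul_assoc]
    rw [e] at h
    have := mul_eq_one_iff_eq_inv.1 h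
    simpa [mul_inv_rev, cs.inv_simple, mul_assoc] using this
  have h2 := congrArg (· * z) h1
  simpa [mul_assoc] using h2

theorem mem_J {j : Fin 3} (hj : j ≠ 2) : cs.simple j ∈ WJ cs ({2}ᶜ : Set (Fin 3)) :=
  Subgroup.subset_closure ⟨j, hj, rfl⟩

/-- the eight cosets of `W_J` -/
theorem cover (v : W) : ∃ u ∈ WJ cs ({2}ᶜ : Set (Fin 3)), v = u ∨ v = c * u ∨ v = b * (c * u) ∨ v = a * (b * (c * u)) ∨
    v = c * (b * (c * u)) ∨ v = a * (c * (b * (c * u))) ∨ v = b * (a * (c * (b * (c * u)))) ∨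
    v = c * (b * (a * (c * (b * (c * u))))) := by
  have ha : a ∈ WJ cs ({2}ᶜ : Set (Fin 3)) := mem_J cs (by decide)
  have hb : b ∈ WJ cs ({2}ᶜ : Set (Fin 3)) := mem_J cs (by decide)
  refine cs.simple_induction_left (p := fun v => ∃ u ∈ WJ cs ({2}ᶜ : Set (Fin 3)), v = u ∨ v = c * u ∨
    v = b * (c * u) ∨ v = a * (b * (c * u)) ∨
    v = c * (b * (c * u)) ∨ v = a * (c * (b * (c * u))) ∨ v = b * (a * (c * (b * (c * u)))) ∨
    v = c * (b * (a * (c * (b * (c * u)))))) v ⟨1, one_mem _, Or.inl rfl⟩ ?_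
  rintro w j ⟨u, hu, h⟩
  have hj : ∀ j : Fin 3, j = 0 ∨ j = 1 ∨ j = 2 := by decide
  rcases hj j with rfl | rfl | rfl
  · show ∃ u ∈ _, a * w = _ ∨ _
    rcases h with rfl | rfl | rfl | rfl | rfl | rfl | rfl | rfl
    · exact ⟨_, mul_mem ha hu, by simp⟩
    · exact ⟨a * u, mul_mem ha hu, Or.inr (Or.inl (c02 cs u))⟩
    · exact ⟨u, hu, by simp⟩
    · exact ⟨u, hu, Or.inr (Or.inr (Or.inl (r0 cs _)))⟩
    · exact ⟨u, hu, by simp⟩
    · exact ⟨u, hu, Or.inr (Or.inr (Or.inr (Or.inr (Or.inl (r0 cs _)))))⟩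
    · exact ⟨b * u, mul_mem hb hu, Or.inr (Or.inr (Or.inr (Or.inr (Or.inr (Or.inr (Or.inl (by
        rw [b01, b12])))))))⟩
    · exact ⟨b * u, mul_mem hb hu, Or.inr (Or.inr (Or.inr (Or.inr (Or.inr (Or.inr (Or.inr (by
        rw [c02, b01, b12])))))))⟩
  · show ∃ u ∈ _, b * w = _ ∨ _
    rcases h with rfl | rfl | rfl | rfl | rfl | rfl | rfl | rfl
    · exact ⟨_, mul_mem hb hu, by simp⟩
    · exact ⟨u, hu, by simp⟩
    · exact ⟨u, hu, Or.inr (Or.inl (r1 cs _))⟩
    · exact ⟨a * u, mul_mem ha hu, Or.inr (Or.inr (Or.inr (Or.inl (by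
        rw [← b01, c02]))))⟩
    · exact ⟨b * u, mul_mem hb hu, Or.inr (Or.inr (Or.inr (Or.inr (Or.inl (by rw [b12])))))⟩
    · exact ⟨u, hu, by simp⟩
    · exact ⟨u, hu, Or.inr (Or.inr (Or.inr (Or.inr (Or.inr (Or.inl (r1 cs _))))))⟩
    · exact ⟨a * u, mul_mem ha hu, Or.inr (Or.inr (Or.inr (Or.inr (Or.inr (Or.inr (Or.inr (by
        rw [c02, b12, ← b01, c02, c02])))))))⟩
  · show ∃ u ∈ _, c * w = _ ∨ _
    rcases h with rfl | rfl | rfl | rfl | rfl | rfl | rfl | rfl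
    · exact ⟨w, hu, by simp⟩
    · exact ⟨u, hu, Or.inl (r2 cs _)⟩
    · exact ⟨u, hu, by simp⟩
    · exact ⟨u, hu, Or.inr (Or.inr (Or.inr (Or.inr (Or.inr (Or.inl (c02 cs _).symm)))))⟩
    · exact ⟨u, hu, Or.inr (Or.inr (Or.inl (r2 cs _)))⟩
    · exact ⟨u, hu, Or.inr (Or.inr (Or.inr (Or.inl (by rw [c02, r2]))))⟩
    · exact ⟨u, hu, by simp⟩
    · exact ⟨u, hu, Or.inr (Or.inr (Or.inr (Or.inr (Or.inr (Or.inr (Or.inl (r2 cs _)))))))⟩

/-- the four double cosets -/
theorem four (v : W) : ∃ u ∈ WJ cs ({2}ᶜ : Set (Fin 3)), ∃ u' ∈ WJ cs ({2}ᶜ : Set (Fin 3)), ∃ d : W,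
    (d = 1 ∨ d = c ∨ d = c * b * c ∨ d = c * b * a * c * b * c) ∧ v = u * d * u' := by
  have ha : a ∈ WJ cs ({2}ᶜ : Set (Fin 3)) := mem_J cs (by decide)
  have hb : b ∈ WJ cs ({2}ᶜ : Set (Fin 3)) := mem_J cs (by decide)
  obtain ⟨u, hu, h⟩ := cover cs v
  rcases h with rfl | rfl | rfl | rfl | rfl | rfl | rfl | rfl
  · exact ⟨1, one_mem _, v, hu, 1, Or.inl rfl, by simp⟩
  · exact ⟨1, one_mem _, u, hu, c, Or.inr (Or.inl rfl), by simp⟩
  · exact ⟨b, hb, u, hu, c, Or.inr (Or.inl rfl), by simp [mul_assoc]⟩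
  · exact ⟨a * b, mul_mem ha hb, u, hu, c, Or.inr (Or.inl rfl), by simp [mul_assoc]⟩
  · exact ⟨1, one_mem _, u, hu, c * b * c, Or.inr (Or.inr (Or.inl rfl)), by simp [mul_assoc]⟩
  · exact ⟨a, ha, u, hu, c * b * c, Or.inr (Or.inr (Or.inl rfl)), by simp [mul_assoc]⟩
  · exact ⟨b * a, mul_mem hb ha, u, hu, c * b * c, Or.inr (Or.inr (Or.inl rfl)), by simp [mul_assoc]⟩
  · exact ⟨1, one_mem _, u, hu, c * b * a * c * b * c, Or.inr (Or.inr (Or.inr rfl)), by simp [mul_assoc]⟩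

/-- the two double cosets `W_K \ W / W_J` -/
theorem two (v : W) : ∃ k ∈ WJ cs ({1, 2} : Set (Fin 3)), ∃ u ∈ WJ cs ({2}ᶜ : Set (Fin 3)),
    v = k * u ∨ v = k * (a * b * c) * u := by
  have hb : b ∈ WJ cs ({1, 2} : Set (Fin 3)) := Subgroup.subset_closure ⟨1, by simp, rfl⟩
  have hc : c ∈ WJ cs ({1, 2} : Set (Fin 3)) := Subgroup.subset_closure ⟨2, by simp, rfl⟩
  obtain ⟨u, hu, h⟩ := cover cs v
  rcases h with rfl | rfl | rfl | rfl | rfl | rfl | rfl | rfl
  · exact ⟨1, one_mem _, v, hu, by simp⟩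
  · exact ⟨c, hc, u, hu, by simp⟩
  · exact ⟨b * c, mul_mem hb hc, u, hu, by simp [mul_assoc]⟩
  · exact ⟨1, one_mem _, u, hu, by simp [mul_assoc]⟩
  · exact ⟨c * b * c, mul_mem (mul_mem hc hb) hc, u, hu, by simp [mul_assoc]⟩
  · exact ⟨c, hc, u, hu, Or.inr (by simp only [mul_assoc]; rw [c02])⟩
  · exact ⟨b * c, mul_mem hb hc, u, hu, Or.inr (by simp only [mul_assoc]; rw [c02])⟩
  · exact ⟨c * b * c, mul_mem (mul_mem hc hb) hc, u, hu, Or.inr (by simp only [mul_assoc]; rw [c02])⟩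

theorem mem_one {u : W} (hu : u ∈ WJ cs ({1} : Set (Fin 3))) : u = 1 ∨ u = b := by
  unfold WJ at hu
  rw [Set.image_singleton] at hu
  induction hu using Subgroup.closure_induction with
  | mem g hg => exact Or.inr hg
  | one => exact Or.inl rfl
  | mul x y _ _ hx hy =>
    rcases hx with rfl | rfl <;> rcases hy with rfl | rfl
    · simp
    · simp
    · simp
    · left; exact cs.simple_mul_simple_self 1
  | inv x _ hx =>
    rcases hx with rfl | rfl
    · simp
    · right; exact cs.inv_simple 1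

theorem wk {v : W} (hv : v ∈ WJ cs ({1, 2} : Set (Fin 3))) : ∃ u ∈ WJ cs ({1} : Set (Fin 3)),
    ∃ u' ∈ WJ cs ({1} : Set (Fin 3)), ∃ d : W, (d = 1 ∨ d = c ∨ d = c * b * c) ∧ v = u * d * u' := by
  have hb : b ∈ WJ cs ({1} : Set (Fin 3)) := Subgroup.subset_closure ⟨1, by simp, rfl⟩
  have key : ∃ u ∈ WJ cs ({1} : Set (Fin 3)), v = u ∨ v = c * u ∨ v = b * (c * u) ∨ v = c * (b * (c * u)) := by
    unfold WJ at hv
    induction hv using Subgroup.closure_induction_left with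
    | one => exact ⟨1, one_mem _, Or.inl rfl⟩
    | mul_left x hx y _ hy =>
      obtain ⟨u, hu, h⟩ := hy
      obtain ⟨j, hj, rfl⟩ := hx
      rcases hj with rfl | hj
      · rcases h with rfl | rfl | rfl | rfl
        · exact ⟨_, mul_mem hb hu, by simp⟩
        · exact ⟨u, hu, by simp⟩
        · exact ⟨u, hu, Or.inr (Or.inl (r1 cs _))⟩
        · exact ⟨b * u, mul_mem hb hu, Or.inr (Or.inr (Or.inr (by rw [b12])))⟩
      · rw [Set.mem_singleton_iff] at hj
        subst hj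
        rcases h with rfl | rfl | rfl | rfl
        · exact ⟨y, hu, by simp⟩
        · exact ⟨u, hu, Or.inl (r2 cs _)⟩
        · exact ⟨u, hu, by simp⟩
        · exact ⟨u, hu, Or.inr (Or.inr (Or.inl (r2 cs _)))⟩
    | inv_mul_cancel x hx y _ hy =>
      obtain ⟨u, hu, h⟩ := hy
      obtain ⟨j, hj, rfl⟩ := hx
      rw [cs.inv_simple]
      rcases hj with rfl | hj
      · rcases h with rfl | rfl | rfl | rfl
        · exact ⟨_, mul_mem hb hu, by simp⟩
        · exact ⟨u, hu, by simp⟩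
        · exact ⟨u, hu, Or.inr (Or.inl (r1 cs _))⟩
        · exact ⟨b * u, mul_mem hb hu, Or.inr (Or.inr (Or.inr (by rw [b12])))⟩
      · rw [Set.mem_singleton_iff] at hj
        subst hj
        rcases h with rfl | rfl | rfl | rfl
        · exact ⟨y, hu, by simp⟩
        · exact ⟨u, hu, Or.inl (r2 cs _)⟩
        · exact ⟨u, hu, by simp⟩
        · exact ⟨u, hu, Or.inr (Or.inr (Or.inl (r2 cs _)))⟩
  obtain ⟨u, hu, h⟩ := key
  rcases h with rfl | rfl | rfl | rfl
  · exact ⟨1, one_mem _, v, hu, 1, Or.inl rfl, by simp⟩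
  · exact ⟨1, one_mem _, u, hu, c, Or.inr (Or.inl rfl), by simp⟩
  · exact ⟨b, hb, u, hu, c, Or.inr (Or.inl rfl), by simp [mul_assoc]⟩
  · exact ⟨1, one_mem _, u, hu, c * b * c, Or.inr (Or.inr rfl), by simp [mul_assoc]⟩

/-! ### Signs -/

theorem not_opp_one : ¬ Opp cs 1 := by
  unfold Opp
  rw [map_one]
  decide

theorem not_opp_c : ¬ Opp cs c := by
  unfold Opp
  rw [phi_simple]
  decide

theorem not_opp_m : ¬ Opp cs (c * b * c) := by
  unfold Opp
  rw [map_mul, map_mul, phi_simple, phi_simple]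
  decide

theorem opp_w : Opp cs (c * b * a * c * b * c) := by
  unfold Opp
  rw [map_mul, map_mul, map_mul, map_mul, map_mul, phi_simple, phi_simple, phi_simple]
  decide

theorem not_opp_cw : ¬ Opp cs (c * (c * b * a * c * b * c)) := by
  unfold Opp
  rw [map_mul, map_mul, map_mul, map_mul, map_mul, map_mul, phi_simple, phi_simple, phi_simple]
  decide

theorem opp_z {e : W} (he : e = 1 ∨ e = b) :
    ¬ Opp cs ((a * b * c)⁻¹ * (e * 1)) ∧ ¬ Opp cs ((a * b * c)⁻¹ * (e * c)) ∧ Opp cs ((a * b * c)⁻¹ * (e * (c * b * c))) := by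
  unfold Opp
  rcases he with rfl | rfl
  · simp only [map_mul, map_inv, map_one, phi_simple]
    decide
  · simp only [map_mul, map_inv, map_one, phi_simple]
    decide

/-- `(s₀ s₁ s₂)⁻¹` is minimal in its coset of `W_K` -/
theorem minR : Cfsg.Agent.Tits.Exchange.IsMinR cs ({1, 2} : Set (Fin 3)) (a * b * c)⁻¹ := by
  rw [Cfsg.Agent.Tits.Exchange.isMinR_iff]
  intro i hi
  by_contra hcon
  have hne := cs.length_mul_simple_ne (a * b * c)⁻¹ i
  have hlt : cs.length ((a * b * c)⁻¹ * cs.simple i) < cs.length (a * b * c)⁻¹ := by omega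
  have e : (a * b * c)⁻¹ = cs.wordProd [2, 1, 0] := by
    simp [CoxeterSystem.wordProd, mul_assoc]
  rw [e] at hlt
  obtain ⟨j, hj, h⟩ := Cfsg.Agent.Tits.Exchange.exchange_right cs hlt
  have h1 := congrArg (phi cs) h
  simp only [List.length_cons, List.length_nil] at hj
  have hw : ∀ l : List (Fin 3), phi cs (cs.wordProd l) = (l.map fv).prod := by
    intro l
    induction l with
    | nil => simp [CoxeterSystem.wordProd]
    | cons x l ih => rw [cs.wordProd_cons, map_mul, phi_simple, ih, List.map_cons, List.prod_cons]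
  rw [map_mul, hw, hw, phi_simple] at h1
  have key : ∀ i : Fin 3, i ≠ 0 → ∀ j : Fin 3, (([2, 1, 0] : List (Fin 3)).map fv).prod * fv i ≠
      ((([2, 1, 0] : List (Fin 3)).eraseIdx j).map fv).prod := by decide
  refine key i ?_ ⟨j, hj⟩ h1
  rintro rfl
  simp at hi

end

end Cfsg.Agent.H355.EPO
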